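import Mathlib.RingTheory.Derivation.Basic
import Mathlib.Algebra.CharP.Basic
import Mathlib.Data.Nat.Choose.Sum
import Mathlib.Data.Nat.Choose.Dvd
import Mathlib.Algebra.CharP.Lemmas
import Mathlib.Data.ZMod.Basic
import Mathlib.Data.ZMod.Units
import Mathlib.Tactic.Ring

/-!
# Iterates of a derivation in characteristic `p`: Leibniz formula, independence, normal forms
-/

set_option autoImplicit false
universe u v

namespace K892.Normal

section Leibniz

variable {A : Type v} {B : Type u} [CommRing A] [CommRing B] [Algebra A B] (D : Derivation A B B)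

theorem iter_add (n : ℕ) (x y : B) : (⇑D)^[n] (x + y) = (⇑D)^[n] x + (⇑D)^[n] y :=
  iterate_map_add D n x y

theorem iter_succ (n : ℕ) (x : B) : (⇑D)^[n + 1] x = D ((⇑D)^[n] x) :=
  Function.iterate_succ_apply' _ _ _

/-- Leibniz formula for the iterates of a derivation. -/
theorem iter_mul (n : ℕ) (x y : B) : (⇑D)^[n] (x * y) =
    ∑ ij ∈ Finset.antidiagonal n, n.choose ij.1 • ((⇑D)^[ij.1] x * (⇑D)^[ij.2] y) := by
  induction n with
  | zero => simp
  | succ n ih =>
    rw [Finset.sum_antidiagonal_choose_succ_nsmul (M := B)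
      (fun i j => (⇑D)^[i] x * (⇑D)^[j] y) n, iter_succ, ih, map_sum, ← Finset.sum_add_distrib]
    refine Finset.sum_congr rfl (fun ij hij => ?_)
    rw [map_nsmul, Derivation.leibniz, iter_succ, iter_succ, smul_eq_mul, smul_eq_mul, nsmul_add,
      mul_comm ((⇑D)^[ij.2] y)]
    have : n.choose ij.1 = n.choose ij.2 := by
      rw [← Finset.mem_antidiagonal.1 hij]
      exact Nat.choose_symm_add
    rw [← this]

theorem iter_mul' (n : ℕ) (x y : B) : (⇑D)^[n] (x * y) =
    ∑ k ∈ Finset.range (n + 1), (n.choose k : B) * (⇑D)^[n - k] x * (⇑D)^[k] y := by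
  rw [mul_comm, iter_mul, Finset.Nat.sum_antidiagonal_eq_sum_range_succ_mk]
  refine Finset.sum_congr rfl (fun k _ => ?_)
  rw [nsmul_eq_mul]
  ring

/-- In characteristic `p` the `p`-fold iterate of a derivation is a derivation. -/
theorem exists_iterPow (p : ℕ) [Fact p.Prime] [CharP B p] :
    ∃ Dp : Derivation A B B, ∀ b : B, Dp b = (⇑D)^[p] b := by
  have hlin : ∀ (n : ℕ) (b : B), ((D : B →ₗ[A] B) ^ n) b = (⇑D)^[n] b := by
    intro n b
    rw [Module.End.pow_apply]
    rfl
  refine ⟨Derivation.mk' ((D : B →ₗ[A] B) ^ p) (fun a b => ?_), fun b => hlin p b⟩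
  rw [hlin, hlin, hlin, iter_mul, smul_eq_mul, smul_eq_mul]
  have hp : 0 < p := (Fact.out : p.Prime).pos
  have h0 : ((0, p) : ℕ × ℕ) ∈ Finset.antidiagonal p := by simp
  have h1 : ((p, 0) : ℕ × ℕ) ∈ (Finset.antidiagonal p).erase (0, p) := by
    simp [hp.ne']
  rw [← Finset.add_sum_erase _ _ h0, ← Finset.add_sum_erase _ _ h1, Finset.sum_eq_zero]
  · simp
    ring
  · rintro ⟨i, j⟩ hij
    have hne : (i, j) ≠ (p, 0) := (Finset.mem_erase.1 hij).1
    have hij2 := (Finset.mem_erase.1 hij).2
    have hne' : (i, j) ≠ (0, p) := (Finset.mem_erase.1 hij2).1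
    have hs : i + j = p := Finset.mem_antidiagonal.1 (Finset.mem_erase.1 hij2).2
    have hi0 : i ≠ 0 := by
      rintro rfl
      apply hne'
      simp at hs
      rw [hs]
    have hip : i < p := by
      rcases Nat.lt_or_ge i p with h | h
      · exact h
      · exfalso
        apply hne
        have h1 : i = p := by omega
        have h2 : j = 0 := by omega
        rw [h1, h2]
    rw [nsmul_eq_mul]
    have hd : (p.choose i : B) = 0 :=
      (CharP.cast_eq_zero_iff B p _).2 ((Fact.out : p.Prime).dvd_choose_self hi0 hip)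
    simp only [hd, zero_mul]

/-- The powers `1, D, …, D^(p-1)` are linearly independent over `B` when `D(B)` generates the unit ideal (in the form:
only `0` annihilates `D(B)`), in characteristic `p`. -/
theorem coeff_eq_zero (p : ℕ) [Fact p.Prime] [CharP B p]
    (hD : ∀ g : B, (∀ x : B, g * D x = 0) → g = 0) (m : ℕ) (hm : m < p) (g : ℕ → B)
    (h : ∀ y : B, ∑ i ∈ Finset.range (m + 1), g i * (⇑D)^[i] y = 0) :
    ∀ i ≤ m, g i = 0 := by
  induction m generalizing g with
  | zero =>
    intro i hi
    have h1 := h 1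
    simp at h1
    rw [Nat.le_zero.1 hi, h1]
  | succ m ih =>
    have hu : IsUnit ((m + 1 : ℕ) : B) := by
      have h1 : IsUnit ((m + 1 : ℕ) : ZMod p) := by
        rw [ZMod.isUnit_iff_coprime]
        exact (Nat.Coprime.symm ((Nat.Prime.coprime_iff_not_dvd (Fact.out : p.Prime)).2
          (Nat.not_dvd_of_pos_of_lt (Nat.succ_pos m) hm)))
      have h2 := h1.map (ZMod.castHom (dvd_refl p) B)
      rwa [map_natCast] at h2
    -- the coefficient of `D^m` in the commutator
    have key : ∀ x : B, g (m + 1) * ((m + 1 : ℕ) * D x) = 0 := by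
      intro x
      have hcomm : ∀ y : B, ∑ k ∈ Finset.range (m + 1),
          (∑ i ∈ Finset.range (m + 2), g i * ((i.choose k : B) * (if k < i then (⇑D)^[i - k] x else 0))) *
            (⇑D)^[k] y = 0 := by
        intro y
        have e1 := h (x * y)
        have e2 := h y
        have e3 : ∑ i ∈ Finset.range (m + 2), (g i * (⇑D)^[i] (x * y) - x * (g i * (⇑D)^[i] y)) = 0 := by
          rw [Finset.sum_sub_distrib, ← Finset.mul_sum]
          rw [show m + 2 = m + 1 + 1 from rfl, e1, e2, mul_zero, sub_zero]
        refine Eq.trans ?_ e3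
        simp only [Finset.sum_mul]
        rw [Finset.sum_comm]
        refine Finset.sum_congr rfl (fun i hi => ?_)
        have hi' : i ≤ m + 1 := Nat.lt_succ_iff.1 (Finset.mem_range.1 hi)
        have e4 : (⇑D)^[i] (x * y) = ∑ k ∈ Finset.range i, (i.choose k : B) * (⇑D)^[i - k] x * (⇑D)^[k] y
            + x * (⇑D)^[i] y := by
          rw [iter_mul', Finset.sum_range_succ, Nat.choose_self, Nat.cast_one, one_mul, Nat.sub_self,
            Function.iterate_zero_apply]
        rw [e4, mul_add, mul_left_comm x (g i), add_sub_cancel_right]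
        rw [Finset.mul_sum, ← Finset.sum_subset (Finset.range_subset_range.2 hi')]
        · refine Finset.sum_congr rfl (fun k hk => ?_)
          rw [if_pos (Finset.mem_range.1 hk)]
          ring
        · intro k _ hk
          rw [if_neg (fun h => hk (Finset.mem_range.2 h))]
          ring
      have h3 := ih (Nat.lt_of_succ_lt hm) _ hcomm m le_rfl
      rw [Finset.sum_range_succ, Finset.sum_eq_zero, zero_add] at h3
      · rw [if_pos (Nat.lt_succ_self m), Nat.choose_succ_self_right, Nat.add_sub_cancel_left,
          Function.iterate_one] at h3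
        exact h3
      · intro i hi
        rw [if_neg (by have := Finset.mem_range.1 hi; omega), mul_zero, mul_zero]
    have htop : g (m + 1) = 0 := by
      apply hD
      intro x
      have := key x
      rw [mul_left_comm] at this
      exact (hu.mul_right_eq_zero).1 this
    intro i hi
    rcases Nat.lt_or_ge i (m + 1) with h1 | h1
    · apply ih (Nat.lt_of_succ_lt hm) g _ i (Nat.lt_succ_iff.1 h1)
      intro y
      have := h y
      rw [Finset.sum_range_succ, htop, zero_mul, add_zero] at this
      exact this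
    · rw [le_antisymm hi h1, htop]

end Leibniz

section NormalForm

variable {B : Type u} [CommRing B]

/-- Coefficients of the normal form of `(f D)^n`. -/
def G (d : B → B) (f : B) : ℕ → ℕ → B
  | 0, 0 => 1
  | 0, _ + 1 => 0
  | n + 1, 0 => f * d (G d f n 0)
  | n + 1, i + 1 => f * (d (G d f n (i + 1)) + G d f n i)

variable {E : Type*} [AddCommGroup E] [Module B E]

theorem G_eq_zero (d : B → B) (hd : d 0 = 0) (f : B) (n i : ℕ) (h : n < i) : G d f n i = 0 := by
  induction n generalizing i with
  | zero =>
    cases i with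
    | zero => exact absurd h (Nat.lt_irrefl _)
    | succ i => rfl
  | succ n ih =>
    cases i with
    | zero => exact absurd h (Nat.not_lt_zero _)
    | succ i =>
      change f * (d (G d f n (i + 1)) + G d f n i) = 0
      rw [ih _ (by omega), ih _ (by omega), hd, add_zero, mul_zero]

/-- The normal form of `(f ∇)^n` for an operator `∇` satisfying the Leibniz rule over `d`. -/
theorem iter_smul (d : B → B) (hd : d 0 = 0) (N : E →+ E) (hN : ∀ (b : B) (e : E), N (b • e) = b • N e + d b • e)
    (f : B) (n : ℕ) (e : E) :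
    (fun x => f • N x)^[n] e = ∑ i ∈ Finset.range (n + 1), G d f n i • (⇑N)^[i] e := by
  induction n with
  | zero => simp [G]
  | succ n ih =>
    rw [Function.iterate_succ_apply', ih, map_sum, Finset.smul_sum, Finset.sum_range_succ' _ (n + 1)]
    have e1 : ∀ i, f • N (G d f n i • (⇑N)^[i] e) =
        (f * G d f n i) • (⇑N)^[i + 1] e + (f * d (G d f n i)) • (⇑N)^[i] e := by
      intro i
      rw [hN, smul_add, smul_smul, smul_smul, Function.iterate_succ_apply']
    simp only [e1]
    rw [Finset.sum_add_distrib]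
    have e2 : ∀ i, G d f (n + 1) (i + 1) • (⇑N)^[i + 1] e =
        (f * G d f n i) • (⇑N)^[i + 1] e + (f * d (G d f n (i + 1))) • (⇑N)^[i + 1] e := by
      intro i
      change (f * (d (G d f n (i + 1)) + G d f n i)) • _ = _
      rw [mul_add, add_smul, add_comm]
    simp only [e2]
    rw [Finset.sum_add_distrib, add_assoc]
    congr 1
    rw [Finset.sum_range_succ' (fun i => (f * d (G d f n i)) • (⇑N)^[i] e) n,
      Finset.sum_range_succ (fun i => (f * d (G d f n (i + 1))) • (⇑N)^[i + 1] e) n,
      G_eq_zero d hd f n (n + 1) (Nat.lt_succ_self n), hd, mul_zero, zero_smul, add_zero]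
    rfl

end NormalForm

end K892.Normal
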