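import Groth.Prelude.Def_Conn
import Groth.Agent.Conn.K892.Along
import Groth.Agent.PCurv.K892.Normal
import Mathlib.Tactic.LinearCombination

/-!
# p-curvature of a connection when the differentials are free of rank one
-/

set_option autoImplicit false
universe u v
open TensorProduct

namespace K892.RankOne

variable {A : Type v} {B M : Type u} [CommRing A] [CommRing B] [Algebra A B]
  [AddCommGroup M] [Module B M] [Module A M] [IsScalarTower A B M]

theorem lift_eq_smul (bΩ : Module.Basis (Fin 1) B (KaehlerDifferential A B)) {θ₀ : Derivation A B B}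
    (hθ₀ : θ₀.liftKaehlerDifferential (bΩ 0) = 1) (θ : Derivation A B B) :
    θ.liftKaehlerDifferential = θ.liftKaehlerDifferential (bΩ 0) • θ₀.liftKaehlerDifferential := by
  apply bΩ.ext
  intro i
  rw [Subsingleton.elim i 0, LinearMap.smul_apply, hθ₀, smul_eq_mul, mul_one]

theorem apply_eq_mul (bΩ : Module.Basis (Fin 1) B (KaehlerDifferential A B)) {θ₀ : Derivation A B B}
    (hθ₀ : θ₀.liftKaehlerDifferential (bΩ 0) = 1) (θ : Derivation A B B) (b : B) :
    θ b = θ.liftKaehlerDifferential (bΩ 0) * θ₀ b := by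
  have h := LinearMap.congr_fun (lift_eq_smul bΩ hθ₀ θ) (KaehlerDifferential.D A B b)
  rw [LinearMap.smul_apply, Derivation.liftKaehlerDifferential_comp_D,
    Derivation.liftKaehlerDifferential_comp_D, smul_eq_mul] at h
  exact h

theorem alongDer_eq_smul (bΩ : Module.Basis (Fin 1) B (KaehlerDifferential A B)) {θ₀ : Derivation A B B}
    (hθ₀ : θ₀.liftKaehlerDifferential (bΩ 0) = 1) (nabla : M →ₗ[A] M ⊗[B] KaehlerDifferential A B)
    (θ : Derivation A B B) (m : M) :
    Conn.alongDer nabla θ m = θ.liftKaehlerDifferential (bΩ 0) • Conn.alongDer nabla θ₀ m := by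
  unfold Conn.alongDer
  conv_lhs => rw [lift_eq_smul bΩ hθ₀ θ]
  rw [K892.Along.along_eq_ev, K892.Along.along_eq_ev]
  generalize nabla m = x
  induction x using TensorProduct.induction_on with
  | zero => simp
  | add x y hx hy => simp only [map_add, smul_add, hx, hy]
  | tmul a w =>
    rw [K892.Along.ev_tmul, K892.Along.ev_tmul, LinearMap.smul_apply, smul_smul, smul_eq_mul]

theorem eq_zero_of_annihilates (bΩ : Module.Basis (Fin 1) B (KaehlerDifferential A B)) {θ₀ : Derivation A B B}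
    (hθ₀ : θ₀.liftKaehlerDifferential (bΩ 0) = 1) (g : B) (hg : ∀ x : B, g * θ₀ x = 0) : g = 0 := by
  have h1 : ⊤ ≤ LinearMap.ker (g • θ₀.liftKaehlerDifferential) := by
    rw [← KaehlerDifferential.span_range_derivation A B, Submodule.span_le]
    rintro _ ⟨x, rfl⟩
    change (g • θ₀.liftKaehlerDifferential) (KaehlerDifferential.D A B x) = 0
    rw [LinearMap.smul_apply, Derivation.liftKaehlerDifferential_comp_D, smul_eq_mul, hg]
  have h2 : (g • θ₀.liftKaehlerDifferential) (bΩ 0) = 0 := h1 trivial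
  rwa [LinearMap.smul_apply, hθ₀, smul_eq_mul, mul_one] at h2

theorem pCurv_eq_zero (p : ℕ) [Fact p.Prime] [CharP B p]
    (bΩ : Module.Basis (Fin 1) B (KaehlerDifferential A B)) {θ₀ : Derivation A B B}
    (hθ₀ : θ₀.liftKaehlerDifferential (bΩ 0) = 1)
    (nabla : M →ₗ[A] M ⊗[B] KaehlerDifferential A B)
    (hc : Conn.IsConn (KaehlerDifferential.D A B) nabla)
    (h0 : ∀ θp : Derivation A B B, Conn.IsIterPow θ₀ p θp → Conn.pCurv p nabla θ₀ θp = 0)
    (θ θp : Derivation A B B) (hθ : Conn.IsIterPow θ p θp) : Conn.pCurv p nabla θ θp = 0 := by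
  have hp : 0 < p := (Fact.out : p.Prime).pos
  obtain ⟨q, rfl⟩ : ∃ q, p = q + 1 := ⟨p - 1, by omega⟩
  obtain ⟨η, hη⟩ := K892.Normal.exists_iterPow θ₀ (q + 1)
  have hcurv := h0 η hη
  set N : M →ₗ[A] M := Conn.alongDer nabla θ₀ with hN
  set f : B := θ.liftKaehlerDifferential (bΩ 0) with hf
  set h : B := η.liftKaehlerDifferential (bΩ 0) with hh
  set h' : B := θp.liftKaehlerDifferential (bΩ 0) with hh'
  have hNl : ∀ (b : B) (e : M), N.toAddMonoidHom (b • e) = b • N.toAddMonoidHom e + θ₀ b • e := by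
    intro b e
    have := K892.Along.along_smul (KaehlerDifferential.D A B) hc θ₀.liftKaehlerDifferential b e
    rw [Derivation.liftKaehlerDifferential_comp_D] at this
    exact this
  have hBl : ∀ (b e : B), ((θ₀ : B →ₗ[A] B).toAddMonoidHom) (b • e) =
      b • ((θ₀ : B →ₗ[A] B).toAddMonoidHom) e + θ₀ b • e := by
    intro b e
    change θ₀ (b * e) = b * θ₀ e + θ₀ b * e
    rw [Derivation.leibniz, smul_eq_mul, smul_eq_mul, mul_comm e]
  -- normal forms
  have nM := K892.Normal.iter_smul (⇑θ₀) (map_zero _) N.toAddMonoidHom hNl f (q + 1)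
  have nB := K892.Normal.iter_smul (⇑θ₀) (map_zero _) ((θ₀ : B →ₗ[A] B).toAddMonoidHom) hBl f (q + 1)
  set g := K892.Normal.G (⇑θ₀) f (q + 1) with hg
  -- the modified coefficients
  let g' : ℕ → B := fun i => if i = 1 then g 1 + g (q + 1) * h - h' else g i
  have hNp : ∀ e : M, (⇑N)^[q + 1] e = h • N e := by
    intro e
    have h1 := LinearMap.congr_fun hcurv e
    rw [Conn.pCurv, LinearMap.sub_apply, LinearMap.zero_apply, sub_eq_zero, Module.End.pow_apply] at h1
    rw [h1, alongDer_eq_smul bΩ hθ₀]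
  have hηB : ∀ y : B, (⇑θ₀)^[q + 1] y = h * θ₀ y := by
    intro y
    rw [← hη y, apply_eq_mul bΩ hθ₀]
  have hq : 1 < q + 1 := (Fact.out : (q + 1).Prime).one_lt
  have hmem : 1 ∈ Finset.range (q + 1) := Finset.mem_range.2 hq
  have hrel : ∀ y : B, ∑ i ∈ Finset.range (q + 1), g' i * (⇑θ₀)^[i] y = 0 := by
    intro y
    have h1 := hθ y
    have hiter : (⇑θ)^[q + 1] y = (fun x => f • θ₀ x)^[q + 1] y := by
      have : (⇑θ) = (fun x => f • θ₀ x) := by
        funext x
        rw [apply_eq_mul bΩ hθ₀ θ x]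
        rfl
      rw [this]
    rw [hiter, apply_eq_mul bΩ hθ₀ θp y] at h1
    have h2 := nB y
    change (fun x => f • θ₀ x)^[q + 1] y = ∑ i ∈ Finset.range (q + 1 + 1), g i * (⇑θ₀)^[i] y at h2
    rw [← h1, Finset.sum_range_succ, hηB, ← Finset.add_sum_erase _ _ hmem, Function.iterate_one] at h2
    rw [← Finset.add_sum_erase _ _ hmem, Function.iterate_one]
    have h3 : ∑ i ∈ (Finset.range (q + 1)).erase 1, g' i * (⇑θ₀)^[i] y =
        ∑ i ∈ (Finset.range (q + 1)).erase 1, g i * (⇑θ₀)^[i] y := by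
      refine Finset.sum_congr rfl (fun i hi => ?_)
      have : g' i = g i := if_neg (Finset.mem_erase.1 hi).1
      rw [this]
    rw [h3]
    have h4 : g' 1 = g 1 + g (q + 1) * h - h' := if_pos rfl
    rw [h4]
    linear_combination -h2
  have hzero := K892.Normal.coeff_eq_zero θ₀ (q + 1) (eq_zero_of_annihilates bΩ hθ₀) q
    (Nat.lt_succ_self q) g' hrel
  refine LinearMap.ext (fun e => ?_)
  rw [Conn.pCurv, LinearMap.sub_apply, LinearMap.zero_apply, sub_eq_zero, Module.End.pow_apply,
    alongDer_eq_smul bΩ hθ₀]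
  have hiter : (⇑(Conn.alongDer nabla θ))^[q + 1] e = (fun x => f • N x)^[q + 1] e := by
    have : ⇑(Conn.alongDer nabla θ) = (fun x => f • N x) := by
      funext x
      exact alongDer_eq_smul bΩ hθ₀ nabla θ x
    rw [this]
  rw [hiter]
  refine (nM e).trans ?_
  rw [Finset.sum_range_succ, ← Finset.add_sum_erase _ _ hmem, Function.iterate_one]
  have h5 : (⇑N.toAddMonoidHom)^[q + 1] e = h • N e := hNp e
  rw [h5]
  have h6 : ∑ i ∈ (Finset.range (q + 1)).erase 1, g i • (⇑N.toAddMonoidHom)^[i] e = 0 := by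
    refine Finset.sum_eq_zero (fun i hi => ?_)
    have h7 := hzero i (Nat.lt_succ_iff.1 (Finset.mem_range.1 (Finset.mem_erase.1 hi).2))
    have : g' i = g i := if_neg (Finset.mem_erase.1 hi).1
    rw [this] at h7
    rw [h7, zero_smul]
  rw [h6, add_zero]
  have h8 := hzero 1 (by omega)
  have h9 : g' 1 = g 1 + g (q + 1) * h - h' := if_pos rfl
  rw [h9, sub_eq_zero] at h8
  change g 1 • N e + g (q + 1) • h • N e = h' • N e
  rw [smul_smul, ← add_smul, h8]

end K892.RankOne
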